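import Cfsg.Agent.Lib.McLUnique.Global

/-!
Recognition of a simple group with one class of involutions: a copy of it in a finite group that contains
the centraliser of one of its involutions is the whole group.
-/

set_option autoImplicit false

namespace CfsgLib.ThUnique

open Subgroup

/-- The endgame: a homomorphism from a simple group with one class of involutions whose image contains
the centraliser of an involution is an isomorphism. -/
theorem bijective_of_centralizer_le {G : Type*} [Group G] [Finite G] {M : Type*} [Group M]
    [IsSimpleGroup M] (hnc : ¬ IsMulCommutative M)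
    (hone : ∀ x y : M, orderOf x = 2 → orderOf y = 2 → IsConj x y) (f : M →* G) {t a : G}
    (ht : orderOf t = 2) (hC : centralizer ({t} : Set G) ≤ f.range)
    (ha : orderOf a = 2) (haC : a ∈ centralizer ({t} : Set G)) (hat : a ≠ t) :
    Function.Bijective f := by
  have htr : t ∈ f.range := hC (mem_centralizer_singleton_iff.2 rfl)
  have hinj : Function.Injective f := by
    rcases f.normal_ker.eq_bot_or_eq_top with h | h
    · exact (MonoidHom.ker_eq_bot_iff f).1 h
    · obtain ⟨x, rfl⟩ := htr
      rw [MonoidHom.mem_ker.1 (h ▸ mem_top x), orderOf_one] at ht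
      omega
  refine ⟨hinj, MonoidHom.range_eq_top.1 ?_⟩
  by_contra htop
  have hse : Cfsg.IsStronglyEmbedded f.range := by
    refine McLUnique.isStronglyEmbedded_of_oneClass htop ht htr hC fun s hs hs2 => ?_
    obtain ⟨y, rfl⟩ := hs
    obtain ⟨x, rfl⟩ := htr
    rw [orderOf_injective f hinj] at hs2 ht
    obtain ⟨k, hk⟩ := isConj_iff.1 (hone x y ht hs2)
    exact ⟨f k, ⟨k, rfl⟩, by rw [← hk, map_mul, map_mul, map_inv]⟩
  have := BenderQ.isSolvable_of_stronglyEmbedded BenderQ.benderKernel hse
    ⟨t, a, ht, ha, fun e => hat e.symm, (mem_centralizer_singleton_iff.1 haC).symm⟩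
  have : Group.IsSolvable M :=
    Group.isSolvable_of_isSolvable_injective (f := (MonoidHom.ofInjective hinj).toMonoidHom)
      (MonoidHom.ofInjective hinj).injective
  exact hnc ⟨⟨fun x y => IsSimpleGroup.comm_iff_isSolvable.2 inferInstance x y⟩⟩

end CfsgLib.ThUnique
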